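/-
Permutation characters.
Main results: `pc` (integer valued permutation character on the cosets of a subgroup), `indFun_one_eq`,
`card_fixed_eq_sum` (orbit decomposition of a fixed point count), `pc_mul_pc`.
-/
import Cfsg.Agent.EqLemmas

set_option autoImplicit false

namespace Cfsg.Agent.PermChar

variable {G : Type*} [Group G]

/-- The permutation character of `G` on the cosets of `H`, with integer values. -/
noncomputable def pc (H : Subgroup G) (g : G) : ℤ :=
  (Nat.card {t : G ⧸ H // g • t = t} : ℤ)

theorem indFun_one_eq [Fintype G] (H : Subgroup G) (g : G) :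
    Cfsg.indFun H (fun _ => 1) g = (pc H g : ℂ) := by
  classical
  have hext : ∀ x : G, Cfsg.extendByZero H (fun _ => (1 : ℂ)) x = if x ∈ H then 1 else 0 := by
    intro x
    unfold Cfsg.extendByZero
    split_ifs with h
    · exact Subtype.val_injective.extend_apply (fun _ : H => (1 : ℂ)) 0 ⟨x, h⟩
    · rw [Function.extend_apply']
      · rfl
      · rintro ⟨y, rfl⟩; exact h y.2
  have hcard : Nat.card {x : G // x⁻¹ * g * x ∈ H} = Nat.card H * Nat.card {t : G ⧸ H // g • t = t} := by
    rw [← Nat.card_prod]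
    refine Nat.card_congr (Equiv.trans (Equiv.subtypeEquivRight fun x => ?_)
      (QuotientGroup.preimageMkEquivSubgroupProdSet H {t : G ⧸ H | g • t = t}))
    change _ ↔ g • (x : G ⧸ H) = x
    rw [MulAction.Quotient.smul_coe, smul_eq_mul, eq_comm, QuotientGroup.eq, mul_assoc]
  unfold Cfsg.indFun
  simp only [hext]
  rw [Finset.sum_boole, ← Fintype.card_subtype, ← Nat.card_eq_fintype_card, hcard, pc, Nat.cast_mul,
    Int.cast_natCast, ← mul_assoc, inv_mul_cancel₀ (Nat.cast_ne_zero.2 Nat.card_pos.ne'), one_mul]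

/-- A fixed point count is the sum over the orbits of permutation characters. -/
theorem card_fixed_eq_sum {X : Type*} [MulAction G X] [Fintype (Quotient (MulAction.orbitRel G X))]
    [Finite X] (φ : Quotient (MulAction.orbitRel G X) → X)
    (hφ : ∀ ω, Quotient.mk'' (φ ω) = ω) (g : G) :
    (Nat.card {x : X // g • x = x} : ℤ) = ∑ ω, pc (MulAction.stabilizer G (φ ω)) g := by
  unfold pc
  haveI : ∀ ω, Finite (G ⧸ MulAction.stabilizer G (φ ω)) := fun ω =>
    Finite.of_injective _ (MulAction.injective_ofQuotientStabilizer G (φ ω))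
  rw [← Nat.cast_sum, ← Nat.card_sigma, Nat.cast_inj]
  symm
  refine Nat.card_eq_of_bijective
    (fun p => ⟨MulAction.ofQuotientStabilizer G (φ p.1) p.2.1, by
      rw [← MulAction.ofQuotientStabilizer_smul, p.2.2]⟩) ⟨?_, ?_⟩
  · rintro ⟨ω, t, ht⟩ ⟨ω', t', ht'⟩ h
    have h' := congrArg Subtype.val h
    dsimp only at h'
    obtain ⟨a, rfl⟩ := QuotientGroup.mk_surjective t
    obtain ⟨a', rfl⟩ := QuotientGroup.mk_surjective t'
    simp only [MulAction.ofQuotientStabilizer_mk] at h'
    have hω : ω = ω' := by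
      rw [← hφ ω, ← hφ ω']
      refine Quotient.sound' ?_
      change MulAction.orbitRel G X _ _
      rw [MulAction.orbitRel_apply]
      exact ⟨a⁻¹ * a', by simp only [mul_smul, ← h', inv_smul_smul]⟩
    subst hω
    simp only [Sigma.mk.injEq, heq_eq_eq, true_and, Subtype.mk.injEq]
    exact MulAction.injective_ofQuotientStabilizer G (φ ω) h'
  · rintro ⟨x, hx⟩
    have hmem : φ (Quotient.mk'' x) ∈ MulAction.orbit G x := by
      have := Quotient.exact' (hφ (Quotient.mk'' x))
      exact this
    obtain ⟨a, ha⟩ := MulAction.mem_orbit_symm.1 hmem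
    refine ⟨⟨Quotient.mk'' x, (a : G ⧸ MulAction.stabilizer G (φ (Quotient.mk'' x))), ?_⟩, ?_⟩
    · apply MulAction.injective_ofQuotientStabilizer G (φ (Quotient.mk'' x))
      rw [MulAction.ofQuotientStabilizer_smul, MulAction.ofQuotientStabilizer_mk]
      dsimp only at ha
      rw [ha, hx]
    · exact Subtype.ext ha

/-- Mackey: a product of two permutation characters decomposes into permutation characters of
subgroups of the first. -/
theorem pc_mul_pc [Finite G] [Fintype (Subgroup G)] (H K : Subgroup G) :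
    ∃ a : Subgroup G → ℕ, (∀ U, a U ≠ 0 → U ≤ H) ∧
      ∀ g, pc H g * pc K g = ∑ U : Subgroup G, (a U : ℤ) * pc U g := by
  classical
  let X := (G ⧸ H) × (G ⧸ K)
  have := Fintype.ofFinite (Quotient (MulAction.orbitRel G X))
  have hex : ∀ ω : Quotient (MulAction.orbitRel G X),
      ∃ x : X, Quotient.mk'' x = ω ∧ x.1 = ((1 : G) : G ⧸ H) := by
    intro ω
    induction ω using Quotient.inductionOn' with
    | h x =>
      obtain ⟨h, hh⟩ := MulAction.exists_smul_eq G x.1 ((1 : G) : G ⧸ H)
      exact ⟨h • x, Quotient.sound' ⟨h, rfl⟩, hh⟩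
  choose φ hφ hφ1 using hex
  refine ⟨fun U => (Finset.univ.filter fun ω => MulAction.stabilizer G (φ ω) = U).card, ?_, ?_⟩
  · intro U hU
    obtain ⟨ω, hω⟩ := Finset.card_pos.1 (Nat.pos_of_ne_zero hU)
    rw [← (Finset.mem_filter.1 hω).2]
    intro g hg
    have h := congrArg Prod.fst (MulAction.mem_stabilizer_iff.1 hg)
    rw [Prod.smul_fst, hφ1] at h
    rw [← MulAction.stabilizer_quotient H]
    exact h
  · intro g
    have e : pc H g * pc K g = (Nat.card {x : X // g • x = x} : ℤ) := by
      unfold pc
      rw [← Nat.cast_mul, ← Nat.card_prod, Nat.cast_inj]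
      exact Nat.card_congr ((Equiv.subtypeProdEquivProd).symm.trans
        (Equiv.subtypeEquivRight fun x => (Prod.ext_iff (x := g • x) (y := x)).symm))
    rw [e, card_fixed_eq_sum φ hφ g,
      ← Finset.sum_fiberwise Finset.univ (fun ω => MulAction.stabilizer G (φ ω))]
    refine Finset.sum_congr rfl fun U _ => ?_
    rw [Finset.sum_congr rfl fun ω hω => by rw [(Finset.mem_filter.1 hω).2],
      Finset.sum_const, nsmul_eq_mul]

end Cfsg.Agent.PermChar
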