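/-
Solomon's lemma.
Main results: `IsQE` (quasi-elementary subgroup), `isQE_of_le`, `exists_isQE_not_dvd`,
`solomon` (a constant prime to p is a combination of p-quasi-elementary permutation characters).
-/
import Cfsg.Agent.Lib.PermChar.Basic
import Cfsg.Agent.S0869

set_option autoImplicit false

namespace Cfsg.Agent.PermChar

variable {G : Type*} [Group G]

/-- `H` is `p`-quasi-elementary: cyclic normal `p'`-subgroup with `p`-power index. -/
def IsQE (p : ℕ) (H : Subgroup G) : Prop :=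
  ∃ C : Subgroup G, C ≤ H ∧ H ≤ Subgroup.normalizer (C : Set G) ∧ IsCyclic C ∧
    Nat.Coprime (Nat.card C) p ∧ ∃ k : ℕ, C.relIndex H = p ^ k

theorem isQE_of_le [Finite G] {p : ℕ} (hp : p.Prime) {U H : Subgroup G} (hUH : U ≤ H) (hH : IsQE p H) :
    IsQE p U := by
  obtain ⟨C, hCH, hN, hcyc, hcop, k, hk⟩ := hH
  refine ⟨C ⊓ U, inf_le_right, ?_, ?_, hcop.coprime_dvd_left (Subgroup.card_dvd_of_le inf_le_left), ?_⟩
  · intro u hu
    rw [Subgroup.mem_normalizer_iff]
    intro x
    have hC := Subgroup.mem_normalizer_iff.1 (hN (hUH hu)) x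
    constructor
    · rintro ⟨h1, h2⟩; exact ⟨hC.1 h1, U.mul_mem (U.mul_mem hu h2) (U.inv_mem hu)⟩
    · rintro ⟨h1, h2⟩
      refine ⟨hC.2 h1, ?_⟩
      have := U.mul_mem (U.mul_mem (U.inv_mem hu) h2) hu
      simpa [mul_assoc] using this
  · exact isCyclic_of_injective (Subgroup.inclusion (inf_le_left : C ⊓ U ≤ C)) (Subgroup.inclusion_injective _)
  · haveI : (C.subgroupOf H).Normal := Subgroup.normal_subgroupOf_of_le_normalizer hN
    have h := Subgroup.relIndex_dvd_index_of_normal (C.subgroupOf H) (U.subgroupOf H)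
    rw [Subgroup.relIndex_subgroupOf hUH, ← Subgroup.inf_relIndex_right] at h
    change _ ∣ C.relIndex H at h
    rw [hk] at h
    obtain ⟨j, _, hj⟩ := (Nat.dvd_prime_pow hp).1 h
    exact ⟨j, hj⟩

theorem exists_isQE_not_dvd [Finite G] (x : G) {p : ℕ} (hp : p.Prime) :
    ∃ H : Subgroup G, IsQE p H ∧ ¬ p ∣ Nat.card {t : G ⧸ H // x • t = t} := by
  classical
  haveI := Fact.mk hp
  obtain ⟨v, r, hr, hm⟩ := Nat.exists_eq_pow_mul_and_not_dvd (orderOf_pos x).ne' p hp.ne_one
  have hy : orderOf (x ^ p ^ v) = r := by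
    rw [orderOf_pow_of_dvd (pow_ne_zero _ hp.ne_zero) (hm ▸ Dvd.intro r rfl), hm,
      Nat.mul_div_cancel_left _ (pow_pos hp.pos _)]
  set C := Subgroup.zpowers (x ^ p ^ v) with hC
  have hCcop : Nat.Coprime (Nat.card C) p := by
    rw [hC, Nat.card_zpowers, hy]; exact ((hp.coprime_iff_not_dvd).2 hr).symm
  set N := Subgroup.normalizer (C : Set G) with hN
  have hCN : C ≤ N := Subgroup.le_normalizer
  have hxN : x ∈ N := by
    rw [hN, Subgroup.mem_normalizer_iff]
    intro y
    have hfix : ∀ z ∈ C, x * z * x⁻¹ = z := by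
      intro z hz
      obtain ⟨i, rfl⟩ := Subgroup.mem_zpowers_iff.1 hz
      have : Commute x ((x ^ p ^ v) ^ i) := ((Commute.refl x).pow_right _).zpow_right i
      rw [this.eq, mul_inv_cancel_right]
    constructor
    · intro hy; rw [hfix y hy]; exact hy
    · intro hy
      have h := hfix _ hy
      rw [mul_left_inj, mul_right_inj] at h
      rwa [← h]
  haveI : (C.subgroupOf N).Normal := Subgroup.normal_in_normalizer
  let π := QuotientGroup.mk' (C.subgroupOf N)
  have hxp : IsPGroup p (Subgroup.zpowers (π ⟨x, hxN⟩)) := by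
    obtain ⟨i, _, hi⟩ := (Nat.dvd_prime_pow hp).1
      (show orderOf (π ⟨x, hxN⟩) ∣ p ^ v by
        refine orderOf_dvd_of_pow_eq_one ?_
        rw [← map_pow, ← MonoidHom.mem_ker, QuotientGroup.ker_mk', Subgroup.mem_subgroupOf]
        exact Subgroup.mem_zpowers _)
    exact IsPGroup.of_card (n := i) (by rw [Nat.card_zpowers, hi])
  obtain ⟨P, hP⟩ := hxp.exists_le_sylow
  let HN : Subgroup N := (P : Subgroup _).comap π
  let H : Subgroup G := HN.map N.subtype
  have hHN : H.subgroupOf N = HN := Subgroup.comap_map_eq_self_of_injective N.subtype_injective HN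
  have hHleN : H ≤ N := Subgroup.map_subtype_le HN
  have hkerHN : C.subgroupOf N ≤ HN := by
    intro c hc
    change π c ∈ (P : Subgroup _)
    rw [show π c = 1 from (QuotientGroup.eq_one_iff c).2 hc]
    exact one_mem _
  have hCH : C ≤ H := fun c hc => ⟨⟨c, hCN hc⟩, hkerHN hc, rfl⟩
  have hxH : x ∈ H := ⟨⟨x, hxN⟩, hP (Subgroup.mem_zpowers _), rfl⟩
  have hrel : C.relIndex H = Nat.card P := by
    rw [← Subgroup.relIndex_subgroupOf hHleN, hHN]
    have h := Subgroup.relIndex_comap (⊥ : Subgroup (N ⧸ C.subgroupOf N)) π HN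
    rw [MonoidHom.comap_bot, QuotientGroup.ker_mk', Subgroup.map_comap_eq_self_of_surjective
      (QuotientGroup.mk'_surjective _), Subgroup.relIndex_bot_left] at h
    exact h
  obtain ⟨k, hk⟩ := P.2.exists_card_eq
  have hidx : ¬ p ∣ H.relIndex N := by
    rw [Subgroup.relIndex, hHN, Subgroup.index_comap_of_surjective _ (QuotientGroup.mk'_surjective _)]
    exact P.not_dvd_index' Subgroup.index_ne_zero_of_finite
  refine ⟨H, ⟨C, hCH, hHleN, Subgroup.isCyclic_zpowers _, hCcop, k, hrel.trans hk⟩, ?_⟩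
  -- elements of order prime to p in H lie in C
  have hmemC : ∀ z ∈ H, Nat.Coprime (orderOf z) p → z ∈ C := by
    rintro _ ⟨z, hz, rfl⟩ hcop
    have h1 : orderOf (π z) ∣ p ^ k := by
      rw [← hk]
      exact Subgroup.orderOf_dvd_natCard _ hz
    have h2 : orderOf (π z) ∣ orderOf (z : G) := by
      rw [Subgroup.orderOf_coe]; exact orderOf_map_dvd π z
    have h3 := Nat.eq_one_of_dvd_coprimes (Nat.Coprime.pow_right k hcop) h2 h1
    exact (QuotientGroup.eq_one_iff z).1 (orderOf_eq_one_iff.1 h3)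
  let xN : N := ⟨x, hxN⟩
  let f : Function.End (N ⧸ HN) := fun t => xN • t
  have hfpow : ∀ i : ℕ, ∀ t, (f ^ i) t = xN ^ i • t := by
    intro i
    induction i with
    | zero => intro t; simp only [pow_zero, one_smul]; rfl
    | succ i ih =>
      intro t
      rw [pow_succ, pow_succ, mul_smul]
      change (f ^ i) (f t) = _
      rw [ih]
  have hf : f ^ p ^ v = 1 := by
    funext t
    rw [hfpow]
    obtain ⟨n, rfl⟩ := QuotientGroup.mk_surjective t
    change ((xN ^ p ^ v * n : N) : N ⧸ HN) = (n : N ⧸ HN)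
    rw [QuotientGroup.eq]
    have : xN ^ p ^ v ∈ C.subgroupOf N := by
      rw [Subgroup.mem_subgroupOf, Subgroup.coe_pow]; exact Subgroup.mem_zpowers _
    apply hkerHN
    have h := Subgroup.Normal.conj_mem inferInstance _ (inv_mem this) n⁻¹
    simpa [mul_assoc] using h
  have hfix : Nat.card {t : G ⧸ H // x • t = t} = Nat.card f.fixedPoints := by
    symm
    have e : ∀ n n' : N, ((n : N ⧸ HN) = (n' : N ⧸ HN)) ↔ (((n : G) : G ⧸ H) = ((n' : G) : G ⧸ H)) := by
      intro n n'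
      rw [QuotientGroup.eq, QuotientGroup.eq, ← hHN, Subgroup.mem_subgroupOf]
      rfl
    let j : N ⧸ HN → G ⧸ H := fun t => ((t.out : G) : G ⧸ H)
    have hj : ∀ n : N, j (n : N ⧸ HN) = ((n : G) : G ⧸ H) := fun n =>
      (e _ n).1 (QuotientGroup.out_eq' _)
    have hjinj : Function.Injective j := by
      intro t t' h
      obtain ⟨n, rfl⟩ := QuotientGroup.mk_surjective t
      obtain ⟨n', rfl⟩ := QuotientGroup.mk_surjective t'
      rw [hj, hj] at h
      exact (e n n').2 h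
    have hjsmul : ∀ t, j (f t) = x • j t := by
      intro t
      obtain ⟨n, rfl⟩ := QuotientGroup.mk_surjective t
      change j ((xN * n : N) : N ⧸ HN) = x • j _
      rw [hj, hj]
      rfl
    refine Nat.card_eq_of_bijective (fun t => ⟨j t.1, by rw [← hjsmul, t.2]⟩) ⟨?_, ?_⟩
    · intro t t' h; exact Subtype.ext (hjinj (congrArg Subtype.val h))
    · rintro ⟨t, ht⟩
      obtain ⟨g, rfl⟩ := QuotientGroup.mk_surjective t
      have hg : g⁻¹ * x * g ∈ H := by
        have := ht.symm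
        rwa [MulAction.Quotient.smul_coe, smul_eq_mul, QuotientGroup.eq, ← mul_assoc] at this
      have hgy : g⁻¹ * (x ^ p ^ v) * g ∈ C := by
        refine hmemC _ ?_ ?_
        · have := H.pow_mem hg (p ^ v)
          rwa [show g⁻¹ * x * g = MulAut.conj g⁻¹ x by simp, ← map_pow, MulAut.conj_apply, inv_inv] at this
        · rw [show g⁻¹ * x ^ p ^ v * g = MulAut.conj g⁻¹ (x ^ p ^ v) by simp, MulEquiv.orderOf_eq, hy]
          exact ((hp.coprime_iff_not_dvd).2 hr).symm
      have hgN : g⁻¹ ∈ N := by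
        rw [hN, Subgroup.mem_normalizer_iff_map_conj_eq]
        refine Subgroup.eq_of_le_of_card_ge ?_ (Nat.card_congr
          (C.equivMapOfInjective _ (MulAut.conj g⁻¹).injective).toEquiv).le
        rintro _ ⟨y, hy', rfl⟩
        obtain ⟨i, rfl⟩ := Subgroup.mem_zpowers_iff.1 hy'
        rw [map_zpow]
        refine C.zpow_mem ?_ i
        simpa using hgy
      rw [Subgroup.inv_mem_iff] at hgN
      refine ⟨⟨((⟨g, hgN⟩ : N) : N ⧸ HN), ?_⟩, Subtype.ext (hj ⟨g, hgN⟩)⟩
      refine hjinj ?_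
      rw [hjsmul, hj]
      exact ht
  rw [hfix]
  intro hdvd
  apply hidx
  have := Fintype.ofFinite (N ⧸ HN)
  have hmod := Equiv.Perm.card_fixedPoints_modEq hf
  rw [← Nat.card_eq_fintype_card, ← Nat.card_eq_fintype_card] at hmod
  rw [Subgroup.relIndex, hHN]
  exact Nat.modEq_zero_iff_dvd.1 (hmod.trans (Nat.modEq_zero_iff_dvd.2 hdvd))

/-- The integer combinations of quasi-elementary permutation characters. -/
def qeSpan (G : Type*) [Group G] [Fintype (Subgroup G)] (p : ℕ) : AddSubgroup (G → ℤ) where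
  carrier := {f | ∃ a : Subgroup G → ℤ, (∀ H, a H ≠ 0 → IsQE p H) ∧ f = ∑ H : Subgroup G, a H • pc H}
  zero_mem' := ⟨0, by simp, by simp⟩
  add_mem' := by
    rintro _ _ ⟨a, ha, rfl⟩ ⟨b, hb, rfl⟩
    refine ⟨a + b, fun H h => ?_, by simp [add_smul, Finset.sum_add_distrib]⟩
    by_cases h1 : a H = 0
    · exact hb H (fun h2 => h (by simp [h1, h2]))
    · exact ha H h1
  neg_mem' := by
    rintro _ ⟨a, ha, rfl⟩
    exact ⟨-a, fun H h => ha H (fun h1 => h (by simp [h1])), by simp⟩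

theorem pc_mem_qeSpan [Fintype (Subgroup G)] {p : ℕ} {H : Subgroup G} (hH : IsQE p H) :
    pc H ∈ qeSpan G p := by
  classical
  refine ⟨Pi.single H 1, fun K hK => ?_, ?_⟩
  · by_cases h : K = H
    · exact h ▸ hH
    · simp [h] at hK
  · simp [Pi.single_apply, ite_smul]

theorem mul_mem_qeSpan [Finite G] [Fintype (Subgroup G)] {p : ℕ} (hp : p.Prime) {f g : G → ℤ}
    (hf : f ∈ qeSpan G p) (hg : g ∈ qeSpan G p) : f * g ∈ qeSpan G p := by
  obtain ⟨a, ha, rfl⟩ := hf
  obtain ⟨b, _, rfl⟩ := hg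
  rw [Finset.sum_mul]
  refine sum_mem fun H _ => ?_
  rw [Finset.mul_sum]
  refine sum_mem fun K _ => ?_
  by_cases haH : a H = 0
  · simp [haH, zero_mem]
  rw [smul_mul_smul_comm]
  refine AddSubgroup.zsmul_mem _ ?_ _
  obtain ⟨c, hc, hc'⟩ := pc_mul_pc H K
  rw [show pc H * pc K = ∑ U : Subgroup G, (c U : ℤ) • pc U from funext fun g => by simp [hc' g]]
  refine sum_mem fun U _ => ?_
  by_cases hcU : c U = 0
  · simp [hcU, zero_mem]
  · exact AddSubgroup.zsmul_mem _ (pc_mem_qeSpan (isQE_of_le hp (hc U hcU) (ha H haH))) _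

theorem solomon [Finite G] [Fintype (Subgroup G)] {p : ℕ} (hp : p.Prime) :
    ∃ m : ℤ, ¬ (p : ℤ) ∣ m ∧ (fun _ : G => m) ∈ qeSpan G p := by
  classical
  have := Fintype.ofFinite G
  let P : AddSubgroup (G → ℤ) := AddMonoidHom.range (p • AddMonoidHom.id (G → ℤ))
  have hP : ∀ f : G → ℤ, f ∈ P ↔ ∃ h : G → ℤ, p • h = f := fun f => by simp [P]
  let R := qeSpan G p ⊔ P
  have hR : (1 : G → ℤ) ∈ R := by
    by_contra h1
    obtain ⟨x, r, hr, hdvd⟩ := Cfsg.Agent.S0869.result R (fun f hf g hg => by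
      obtain ⟨f1, hf1, f2, hf2, rfl⟩ := AddSubgroup.mem_sup.1 hf
      obtain ⟨g1, hg1, g2, hg2, rfl⟩ := AddSubgroup.mem_sup.1 hg
      obtain ⟨u, rfl⟩ := (hP f2).1 hf2
      obtain ⟨w, rfl⟩ := (hP g2).1 hg2
      refine AddSubgroup.mem_sup.2 ⟨f1 * g1, mul_mem_qeSpan hp hf1 hg1, _,
        (hP _).2 ⟨f1 * w + u * g1 + (p • u) * w, rfl⟩, ?_⟩
      funext z
      simp only [nsmul_eq_mul, Pi.add_apply, Pi.mul_apply, Pi.natCast_apply]
      ring) h1
    have hpr : (r : ℤ) ∣ (p : ℤ) := by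
      have := hdvd _ (AddSubgroup.mem_sup_right ((hP _).2 ⟨(1 : G → ℤ), rfl⟩))
      simpa using this
    obtain ⟨H, hH, hnd⟩ := exists_isQE_not_dvd x hp
    have := hdvd _ (AddSubgroup.mem_sup_left (pc_mem_qeSpan hH))
    rw [(Nat.prime_dvd_prime_iff_eq hr hp).1 (Int.natCast_dvd_natCast.1 hpr)] at this
    exact hnd (Int.natCast_dvd_natCast.1 this)
  obtain ⟨r, hr, q, hq, hrq⟩ := AddSubgroup.mem_sup.1 hR
  obtain ⟨h, rfl⟩ := (hP q).1 hq
  have hval : ∀ g, ¬ (p : ℤ) ∣ r g := by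
    intro g hg
    have hg1 : r g + (p : ℤ) * h g = 1 := by
      have := congrFun hrq g; simpa using this
    have : (p : ℤ) ∣ 1 := hg1 ▸ dvd_add hg (dvd_mul_right _ _)
    exact hp.ne_one (Nat.eq_one_of_dvd_one (Int.natCast_dvd_natCast.1 (by exact_mod_cast this)))
  have hprod : ∀ T : Finset G,
      (∏ g ∈ T, (r - fun _ => r g)) - (fun _ => ∏ g ∈ T, (- r g)) ∈ qeSpan G p := by
    intro T
    induction T using Finset.induction_on with
    | empty =>
      have : (∏ g ∈ (∅ : Finset G), (r - fun _ => r g)) - (fun _ => ∏ g ∈ (∅ : Finset G), (- r g)) = 0 := by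
        funext z; simp
      rw [this]; exact zero_mem _
    | insert x T hx ih =>
      set A := (∏ g ∈ T, (r - fun _ => r g)) - (fun _ => ∏ g ∈ T, (- r g)) with hA
      have : (∏ g ∈ insert x T, (r - fun _ => r g)) - (fun _ => ∏ g ∈ insert x T, (- r g)) =
          A * r + (- r x) • A + (∏ g ∈ T, (- r g)) • r := by
        funext z
        simp [hA, Finset.prod_insert hx]
        ring
      rw [this]
      exact add_mem (add_mem (mul_mem_qeSpan hp ih hr) (AddSubgroup.zsmul_mem _ ih _))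
        (AddSubgroup.zsmul_mem _ hr _)
  refine ⟨∏ g : G, (- r g), ?_, ?_⟩
  · intro hd
    obtain ⟨g, _, hg⟩ := (Prime.dvd_finsetProd_iff (Nat.prime_iff_prime_int.1 hp) _).1 hd
    exact hval g (Int.dvd_neg.1 hg)
  · have h := hprod Finset.univ
    have hz : ∏ g : G, (r - fun _ => r g) = 0 := by
      funext z
      rw [Finset.prod_apply]
      exact Finset.prod_eq_zero (Finset.mem_univ z) (sub_self _)
    rw [hz, zero_sub, neg_mem_iff] at h
    exact h

end Cfsg.Agent.PermChar
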